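import Mathlib

/-! The filtration of a power series ring by `J` (weight two) and the variables (weight one),
substitution of elements of positive weight, and fixed points of contracting maps. -/

universe u

namespace MorseLib

open MvPowerSeries

variable {A : Type u} [CommRing A] (J : Ideal A) {n : ℕ}

/-- Series of weight at least `d`. -/
def Low (d : ℕ) : Ideal (MvPowerSeries (Fin n) A) where
  carrier := {f | ∀ e, coeff e f ∈ J ^ ((d - e.degree + 1) / 2)}
  zero_mem' e := by simp
  add_mem' hf hg e := by rw [map_add]; exact add_mem (hf e) (hg e)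
  smul_mem' c f hf e := by
    classical
    rw [smul_eq_mul, coeff_mul]
    refine Submodule.sum_mem _ fun x hx => Ideal.mul_mem_left _ _ (Ideal.pow_le_pow_right ?_ (hf x.2))
    rw [Finset.HasAntidiagonal.mem_antidiagonal] at hx
    have : x.2.degree ≤ e.degree := by rw [← hx, map_add]; omega
    omega

variable {J}

lemma mem_Low {d : ℕ} {f : MvPowerSeries (Fin n) A} :
    f ∈ Low J d ↔ ∀ e, coeff e f ∈ J ^ ((d - e.degree + 1) / 2) := Iff.rfl

lemma Low_anti {d d' : ℕ} (h : d ≤ d') : Low (n := n) J d' ≤ Low J d := fun _ hf e =>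
  Ideal.pow_le_pow_right (by omega) (hf e)

lemma mul_mem_Low {a b : ℕ} {f g : MvPowerSeries (Fin n) A} (hf : f ∈ Low J a) (hg : g ∈ Low J b) :
    f * g ∈ Low J (a + b) := by
  classical
  intro e
  rw [coeff_mul]
  refine Submodule.sum_mem _ fun x hx => ?_
  rw [Finset.HasAntidiagonal.mem_antidiagonal] at hx
  have h : x.1.degree + x.2.degree = e.degree := by rw [← hx, map_add]
  refine Ideal.pow_le_pow_right ?_ (pow_add J _ _ ▸ Ideal.mul_mem_mul (hf x.1) (hg x.2))
  omega

lemma Low_zero : Low (n := n) J 0 = ⊤ := by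
  rw [eq_top_iff]; intro f _ e; simp

lemma C_mem_Low {d : ℕ} {c : A} (hc : c ∈ J ^ ((d + 1) / 2)) : (C c : MvPowerSeries (Fin n) A) ∈ Low J d := by
  classical
  intro e
  rw [coeff_C]
  split_ifs with h
  · subst h; simpa using hc
  · exact zero_mem _

lemma X_mem_Low (i : Fin n) : (X i : MvPowerSeries (Fin n) A) ∈ Low J 1 := by
  classical
  intro e
  rw [coeff_X]
  split_ifs with h
  · subst h; simp
  · exact zero_mem _

lemma mem_Low_bot {d : ℕ} {f : MvPowerSeries (Fin n) A} :
    f ∈ Low (⊥ : Ideal A) d ↔ ∀ e, e.degree < d → coeff e f = 0 := by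
  refine ⟨fun hf e he => ?_, fun hf e => ?_⟩
  · have := hf e
    obtain ⟨k, hk⟩ := Nat.exists_eq_succ_of_ne_zero (show (d - e.degree + 1) / 2 ≠ 0 by omega)
    rwa [hk, pow_succ, Ideal.mul_bot, Ideal.mem_bot] at this
  · by_cases he : e.degree < d
    · rw [hf e he]; exact zero_mem _
    · rw [show (d - e.degree + 1) / 2 = 0 by omega]; simp

lemma eq_zero_of_forall_mem [IsHausdorff J A] {f : MvPowerSeries (Fin n) A}
    (h : ∀ N, f ∈ Low J N) : f = 0 := by
  ext e
  rw [map_zero]
  refine IsHausdorff.haus ‹_› _ fun N => ?_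
  rw [SModEq.zero, smul_eq_mul, Ideal.mul_top]
  exact Ideal.pow_le_pow_right (by omega) (h (2 * N + e.degree) e)

lemma exists_limit [IsPrecomplete J A] (s : ℕ → MvPowerSeries (Fin n) A)
    (hs : ∀ N, s (N + 1) - s N ∈ Low J N) : ∃ l, ∀ N, l - s N ∈ Low J N := by
  have hle : ∀ M N, M ≤ N → s N - s M ∈ Low J M := by
    intro M N h
    induction N, h using Nat.le_induction with
    | base => simp
    | succ N hN ih => simpa using add_mem (Low_anti hN (hs N)) ih
  have h : ∀ e : Fin n →₀ ℕ, ∀ {p q : ℕ}, p ≤ q → coeff e (s (2 * p + e.degree)) ≡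
      coeff e (s (2 * q + e.degree)) [SMOD (J ^ p • ⊤ : Submodule A A)] := fun e p q hpq => by
    rw [SModEq.sub_mem, smul_eq_mul, Ideal.mul_top, ← neg_sub, neg_mem_iff, ← map_sub]
    exact Ideal.pow_le_pow_right (by omega)
      (hle (2 * p + e.degree) (2 * q + e.degree) (by omega) e)
  choose l hl using fun e => IsPrecomplete.prec ‹_› (@h e)
  refine ⟨l, fun N e => ?_⟩
  by_cases hN : N ≤ e.degree
  · rw [show (N - e.degree + 1) / 2 = 0 by omega]; simp
  set p := (N - e.degree + 1) / 2 with hp
  have h1 := hl e p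
  rw [SModEq.sub_mem, smul_eq_mul, Ideal.mul_top, ← neg_mem_iff, neg_sub] at h1
  have h2 := Ideal.pow_le_pow_right (show p ≤ (N - e.degree + 1) / 2 by omega)
    (hle N (2 * p + e.degree) (by omega) e)
  rw [map_sub] at h2
  show l e - coeff e (s N) ∈ _
  convert add_mem h1 h2 using 1
  ring

/-- A contracting self map has a fixed point. -/
theorem exists_fixed [IsAdicComplete J A] (T : (Fin n → MvPowerSeries (Fin n) A) → Fin n → MvPowerSeries (Fin n) A)
    (r : ℕ) (hT : ∀ v, (∀ i, v i ∈ Low J r) → ∀ i, T v i ∈ Low J r)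
    (hc : ∀ v w, (∀ i, v i ∈ Low J r) → (∀ i, w i ∈ Low J r) → ∀ d,
      (∀ i, v i - w i ∈ Low J d) → ∀ i, T v i - T w i ∈ Low J (d + 1)) :
    ∃ v, (∀ i, v i ∈ Low J r) ∧ T v = v := by
  let s : ℕ → Fin n → MvPowerSeries (Fin n) A := fun N => T^[N] 0
  have hs : ∀ N i, s N i ∈ Low J r := by
    intro N
    induction N with
    | zero => intro i; exact zero_mem _
    | succ N ih => intro i; simp only [s, Function.iterate_succ_apply']; exact hT _ ih i
  have hd : ∀ N i, s (N + 1) i - s N i ∈ Low J N := by
    intro N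
    induction N with
    | zero => intro i; rw [Low_zero]; trivial
    | succ N ih =>
      intro i
      simp only [s, Function.iterate_succ_apply']
      exact hc _ _ (fun j => by simpa only [s, Function.iterate_succ_apply'] using hs (N + 1) j)
        (hs N) N (fun j => by simpa only [s, Function.iterate_succ_apply'] using ih j) i
  choose l hl using fun i => exists_limit (fun N => s N i) (fun N => hd N i)
  have hlr : ∀ i, l i ∈ Low J r := fun i => by simpa using add_mem (hl i r) (hs r i)
  refine ⟨l, hlr, funext fun i => sub_eq_zero.1 (eq_zero_of_forall_mem (J := J) fun N => ?_)⟩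
  have h1 := Low_anti (Nat.le_succ N) (hc l (s N) hlr (hs N) N (fun j => hl j N) i)
  have h2 := hl i (N + 1)
  simp only [s, Function.iterate_succ_apply'] at h2
  convert sub_mem h1 (Low_anti (Nat.le_succ N) h2) using 1
  simp only [s]
  exact (sub_sub_sub_cancel_right (T l i) (l i) _).symm

/-- Substitution in polynomials respects weights. -/
lemma aeval_sub_mem {a b : Fin n → MvPowerSeries (Fin n) A} (ha : ∀ i, a i ∈ Low J 1)
    (hb : ∀ i, b i ∈ Low J 1) {d r : ℕ} (hab : ∀ i, a i - b i ∈ Low J d)
    {p : MvPolynomial (Fin n) A} (hp : (p : MvPowerSeries (Fin n) A) ∈ Low J r) :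
    MvPolynomial.aeval a p - MvPolynomial.aeval b p ∈ Low J (d + r - 1) := by
  classical
  have hpow : ∀ (a : Fin n → MvPowerSeries (Fin n) A), (∀ i, a i ∈ Low J 1) → ∀ m : Fin n →₀ ℕ,
      m.prod (fun i k => a i ^ k) ∈ Low J m.degree := by
    intro a ha m
    induction m using Finsupp.induction_linear with
    | zero => rw [map_zero, Low_zero]; trivial
    | add f g hf hg =>
      rw [Finsupp.prod_add_index' (fun _ => pow_zero _) (fun _ _ _ => pow_add _ _ _), map_add]
      exact mul_mem_Low hf hg
    | single i k =>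
      rw [Finsupp.prod_single_index (by simp), Finsupp.degree_single]
      induction k with
      | zero => rw [Low_zero]; trivial
      | succ k ih => rw [pow_succ]; exact mul_mem_Low ih (ha i)
  have hdiff : ∀ m : Fin n →₀ ℕ, m.prod (fun i k => a i ^ k) - m.prod (fun i k => b i ^ k) ∈
      Low J (d + m.degree - 1) := by
    intro m
    induction m using Finsupp.induction_linear with
    | zero => simp
    | add f g hf hg =>
      rw [Finsupp.prod_add_index' (fun _ => pow_zero _) (fun _ _ _ => pow_add _ _ _),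
        Finsupp.prod_add_index' (fun _ => pow_zero _) (fun _ _ _ => pow_add _ _ _), map_add]
      have h1 := Low_anti (show d + (f.degree + g.degree) - 1 ≤ d + f.degree - 1 + g.degree by omega)
        (mul_mem_Low hf (hpow a ha g))
      have h2 := Low_anti (show d + (f.degree + g.degree) - 1 ≤ f.degree + (d + g.degree - 1) by omega)
        (mul_mem_Low (hpow b hb f) hg)
      convert add_mem h1 h2 using 1
      ring
    | single i k =>
      rw [Finsupp.prod_single_index (by simp), Finsupp.prod_single_index (by simp),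
        Finsupp.degree_single]
      induction k with
      | zero => simp
      | succ k ih =>
        have h1 := Low_anti (show d + (k + 1) - 1 ≤ d + k - 1 + 1 by omega) (mul_mem_Low ih (ha i))
        have hk : b i ^ k ∈ Low J k := by
          have := hpow b hb (Finsupp.single i k)
          rwa [Finsupp.prod_single_index (by simp), Finsupp.degree_single] at this
        have h2 := Low_anti (show d + (k + 1) - 1 ≤ k + d by omega) (mul_mem_Low hk (hab i))
        convert add_mem h1 h2 using 1
        ring
  rw [p.as_sum, map_sum, map_sum, ← Finset.sum_sub_distrib]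
  refine Submodule.sum_mem _ fun m _ => ?_
  rw [MvPolynomial.aeval_monomial, MvPolynomial.aeval_monomial, ← mul_sub]
  by_cases hm : m = 0
  · subst hm; simp
  have hdeg : m.degree ≠ 0 := fun h => hm (Finsupp.degree_eq_zero_iff m |>.1 h)
  refine Low_anti (show d + r - 1 ≤ (r - m.degree) + (d + m.degree - 1) by omega)
    (mul_mem_Low ?_ (hdiff m))
  rw [← c_eq_algebraMap]
  have h := hp m
  rw [MvPolynomial.coeff_coe] at h
  exact C_mem_Low h

lemma aeval_mem {a : Fin n → MvPowerSeries (Fin n) A} (ha : ∀ i, a i ∈ Low J 1) {r : ℕ}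
    {p : MvPolynomial (Fin n) A} (hp : (p : MvPowerSeries (Fin n) A) ∈ Low J r) :
    MvPolynomial.aeval a p ∈ Low J r := by
  classical
  have h := aeval_sub_mem (d := 1) ha (fun _ => zero_mem _) (fun i => by simpa using ha i) hp
  rw [Nat.add_sub_cancel_left] at h
  have h0 : MvPolynomial.aeval (fun _ : Fin n => (0 : MvPowerSeries (Fin n) A)) p ∈ Low J r := by
    rw [MvPolynomial.aeval_zero', ← c_eq_algebraMap]
    have h := hp 0
    rw [MvPolynomial.coeff_coe] at h
    exact C_mem_Low (by simpa [MvPolynomial.constantCoeff_eq] using h)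
  simpa using add_mem h h0

lemma sub_truncTotal_mem (f : MvPowerSeries (Fin n) A) (N : ℕ) :
    f - (truncTotal N f : MvPolynomial (Fin n) A) ∈ Low J N := by
  intro e
  rw [map_sub, MvPolynomial.coeff_coe, coeff_truncTotal_eq_ite]
  split_ifs with h
  · rw [sub_self]; exact zero_mem _
  · rw [show (N - e.degree + 1) / 2 = 0 by omega]; simp

section Ev

variable [IsAdicComplete J A] (a : Fin n → MvPowerSeries (Fin n) A) (ha : ∀ i, a i ∈ Low J 1)

include ha in
lemma exists_eval (f : MvPowerSeries (Fin n) A) :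
    ∃ l, ∀ N (p : MvPolynomial (Fin n) A), f - p ∈ Low J N →
      l - MvPolynomial.aeval a p ∈ Low J N := by
  have hp : ∀ {N : ℕ} {p q : MvPolynomial (Fin n) A}, f - p ∈ Low J N → f - q ∈ Low J N →
      MvPolynomial.aeval a p - MvPolynomial.aeval a q ∈ Low J N := fun {N p q} h1 h2 => by
    rw [← map_sub]
    refine aeval_mem ha ?_
    rw [← MvPolynomial.coeToMvPowerSeries.ringHom_apply, map_sub]
    simpa using sub_mem h2 h1
  obtain ⟨l, hl⟩ := exists_limit (J := J) (fun N => MvPolynomial.aeval a (truncTotal N f)) fun N =>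
    hp (Low_anti (Nat.le_succ N) (sub_truncTotal_mem f (N + 1))) (sub_truncTotal_mem f N)
  exact ⟨l, fun N p h => by simpa using add_mem (hl N) (hp (sub_truncTotal_mem f N) h)⟩

/-- Substitution of elements of positive weight. -/
noncomputable def evFun (f : MvPowerSeries (Fin n) A) : MvPowerSeries (Fin n) A :=
  (exists_eval a ha f).choose

lemma evFun_spec {f : MvPowerSeries (Fin n) A} {N : ℕ} {p : MvPolynomial (Fin n) A}
    (h : f - p ∈ Low J N) : evFun a ha f - MvPolynomial.aeval a p ∈ Low J N :=
  (exists_eval a ha f).choose_spec N p h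

lemma evFun_coe (p : MvPolynomial (Fin n) A) :
    evFun a ha (p : MvPowerSeries (Fin n) A) = MvPolynomial.aeval a p :=
  sub_eq_zero.1 (eq_zero_of_forall_mem (J := J) fun _ => evFun_spec a ha (by simp))

/-- Substitution as an algebra map. -/
noncomputable def Ev : MvPowerSeries (Fin n) A →ₐ[A] MvPowerSeries (Fin n) A where
  toFun := evFun a ha
  map_one' := (congrArg (evFun a ha) MvPolynomial.coe_one.symm).trans ((evFun_coe a ha 1).trans (map_one _))
  map_zero' := (congrArg (evFun a ha) MvPolynomial.coe_zero.symm).trans ((evFun_coe a ha 0).trans (map_zero _))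
  map_add' f g := sub_eq_zero.1 (eq_zero_of_forall_mem (J := J) fun N => by
    have hf := evFun_spec a ha (sub_truncTotal_mem (J := J) f N)
    have hg := evFun_spec a ha (sub_truncTotal_mem (J := J) g N)
    have h : f + g - ((truncTotal N f + truncTotal N g : MvPolynomial (Fin n) A) :
        MvPowerSeries (Fin n) A) ∈ Low J N := by
      rw [MvPolynomial.coe_add, add_sub_add_comm]
      exact add_mem (sub_truncTotal_mem f N) (sub_truncTotal_mem g N)
    have hfg := evFun_spec a ha h
    rw [map_add] at hfg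
    convert sub_mem hfg (add_mem hf hg) using 1
    ring)
  map_mul' f g := sub_eq_zero.1 (eq_zero_of_forall_mem (J := J) fun N => by
    have hf := evFun_spec a ha (sub_truncTotal_mem (J := J) f N)
    have hg := evFun_spec a ha (sub_truncTotal_mem (J := J) g N)
    have h : f * g - ((truncTotal N f * truncTotal N g : MvPolynomial (Fin n) A) :
        MvPowerSeries (Fin n) A) ∈ Low J N := by
      rw [MvPolynomial.coe_mul]
      convert add_mem (Ideal.mul_mem_right g _ (sub_truncTotal_mem (J := J) f N))
        (Ideal.mul_mem_left _ (truncTotal N f : MvPowerSeries (Fin n) A) (sub_truncTotal_mem g N))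
        using 1
      ring
    have hfg := evFun_spec a ha h
    rw [map_mul] at hfg
    convert sub_mem hfg (add_mem (Ideal.mul_mem_right (evFun a ha g) _ hf)
      (Ideal.mul_mem_left _ (MvPolynomial.aeval a (truncTotal N f)) hg)) using 1
    ring)
  commutes' c := by
    rw [← c_eq_algebraMap, ← MvPolynomial.coe_C, evFun_coe, MvPolynomial.aeval_C, ← c_eq_algebraMap,
      MvPolynomial.coe_C]

lemma Ev_coe (p : MvPolynomial (Fin n) A) :
    Ev a ha (p : MvPowerSeries (Fin n) A) = MvPolynomial.aeval a p := evFun_coe a ha p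

lemma Ev_X (i : Fin n) : Ev a ha (X i) = a i := by
  rw [← MvPolynomial.coe_X, Ev_coe, MvPolynomial.aeval_X]

lemma Ev_mem {N : ℕ} {f : MvPowerSeries (Fin n) A} (hf : f ∈ Low J N) : Ev a ha f ∈ Low J N := by
  have h := evFun_spec a ha (p := 0) (N := N) (f := f) (by simpa using hf)
  rw [map_zero, sub_zero] at h
  exact h

lemma eq_Ev {φ : MvPowerSeries (Fin n) A →ₐ[A] MvPowerSeries (Fin n) A}
    (hφ : ∀ N f, f ∈ Low J N → φ f ∈ Low J N) (hX : ∀ i, φ (X i) = a i) : φ = Ev a ha := by
  refine AlgHom.ext fun f => sub_eq_zero.1 (eq_zero_of_forall_mem (J := J) fun N => ?_)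
  have hcomp : φ.comp (MvPolynomial.coeToMvPowerSeries.algHom A) = MvPolynomial.aeval a :=
    MvPolynomial.algHom_ext fun i => by simp [hX]
  have h1 := hφ N _ (sub_truncTotal_mem (J := J) f N)
  rw [map_sub] at h1
  have h2 := evFun_spec a ha (sub_truncTotal_mem (J := J) f N)
  have h3 : φ (truncTotal N f : MvPolynomial (Fin n) A) = MvPolynomial.aeval a (truncTotal N f) := by
    rw [← hcomp]
    simp [MvPolynomial.coeToMvPowerSeries.algHom_apply]
  rw [h3] at h1
  convert sub_mem h1 h2 using 1
  exact (sub_sub_sub_cancel_right ..).symm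

lemma Ev_X_eq_id (h : ∀ i, (X i : MvPowerSeries (Fin n) A) ∈ Low J 1) :
    Ev (fun i => X i) h = AlgHom.id A _ :=
  (eq_Ev (fun i => X i) h (fun _ _ hf => hf) fun _ => rfl).symm

lemma Ev_comp (b : Fin n → MvPowerSeries (Fin n) A) (hb : ∀ i, b i ∈ Low J 1) :
    (Ev b hb).comp (Ev a ha) = Ev (fun i => Ev b hb (a i)) (fun i => Ev_mem b hb (ha i)) :=
  eq_Ev _ _ (fun _ _ hf => Ev_mem b hb (Ev_mem a ha hf)) fun i => by simp [Ev_X]

end Ev

end MorseLib
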