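import Groth.Agent.MorseLib.Morse

/-! Series whose partial derivatives generate the maximal ideal. -/

universe u

namespace MorseLib

open MvPowerSeries Finsupp

variable {n : ℕ}

lemma degree_cases (e : Fin n →₀ ℕ) (he : e.degree ≤ 2) :
    e = 0 ∨ (∃ i, e = single i 1) ∨ ∃ i j, i ≤ j ∧ e = single i 1 + single j 1 := by
  have step : ∀ e : Fin n →₀ ℕ, e ≠ 0 → ∃ i e', e = single i 1 + e' ∧ e'.degree + 1 = e.degree := by
    intro e he
    obtain ⟨i, hi⟩ := Finsupp.support_nonempty_iff.2 he
    have hle : single i 1 ≤ e := by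
      simpa using Nat.one_le_iff_ne_zero.2 (Finsupp.mem_support_iff.1 hi)
    refine ⟨i, e - single i 1, (add_tsub_cancel_of_le hle).symm, ?_⟩
    conv_rhs => rw [← add_tsub_cancel_of_le hle, map_add, Finsupp.degree_single]
    rw [add_comm]
  by_cases h0 : e = 0
  · exact Or.inl h0
  obtain ⟨i, e', rfl, hd⟩ := step e h0
  by_cases h1 : e' = 0
  · exact Or.inr (Or.inl ⟨i, by rw [h1, add_zero]⟩)
  obtain ⟨j, e'', rfl, hd'⟩ := step e' h1
  have h2 : e'' = 0 := (Finsupp.degree_eq_zero_iff e'').1 (by omega)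
  subst h2
  rw [add_zero]
  rcases le_total i j with h | h
  · exact Or.inr (Or.inr ⟨i, j, h, rfl⟩)
  · exact Or.inr (Or.inr ⟨j, i, h, add_comm _ _⟩)

lemma pair_inj {i j i' j' : Fin n} (h : i ≤ j) (h' : i' ≤ j')
    (he : (single i 1 + single j 1 : Fin n →₀ ℕ) = single i' 1 + single j' 1) : i = i' ∧ j = j' := by
  rcases (Finsupp.single_add_single_eq_single_add_single one_ne_zero one_ne_zero).1 he with
    h1 | ⟨-, rfl, rfl⟩ | ⟨h1, -, -⟩
  · exact h1
  · exact ⟨le_antisymm h h', le_antisymm h' h⟩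
  · exact absurd h1 (by simp)

section

variable {A : Type u} [CommRing A]

lemma coeff_quadPoly (q : Fin n → Fin n → A) (e : Fin n →₀ ℕ) :
    MvPolynomial.coeff e (VanCyc.quadPoly q) =
      ∑ i, ∑ j, if i ≤ j ∧ single i 1 + single j 1 = e then q i j else 0 := by
  classical
  rw [VanCyc.quadPoly, MvPolynomial.coeff_sum]
  refine Finset.sum_congr rfl fun i _ => ?_
  rw [MvPolynomial.coeff_sum]
  refine Finset.sum_congr rfl fun j _ => ?_
  by_cases h : i ≤ j
  · rw [if_pos h, show MvPolynomial.C (q i j) * MvPolynomial.X i * MvPolynomial.X j =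
        MvPolynomial.monomial (single i 1 + single j 1) (q i j) by
      rw [mul_assoc, MvPolynomial.X, MvPolynomial.X, MvPolynomial.monomial_mul,
        MvPolynomial.C_mul_monomial, mul_one, mul_one], MvPolynomial.coeff_monomial]
    simp only [h, true_and]
  · rw [if_neg h, if_neg (fun hh => h hh.1), MvPolynomial.coeff_zero]

lemma coeff_quadPoly_pair (q : Fin n → Fin n → A) {i j : Fin n} (h : i ≤ j) :
    MvPolynomial.coeff (single i 1 + single j 1) (VanCyc.quadPoly q) = q i j := by
  rw [coeff_quadPoly, Finset.sum_eq_single i, Finset.sum_eq_single j, if_pos ⟨h, rfl⟩]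
  · exact fun l _ hl => if_neg fun hh => hl (pair_inj hh.1 h hh.2).2
  · simp
  · exact fun l _ hl => Finset.sum_eq_zero fun m _ => if_neg fun hh => hl (pair_inj hh.1 h hh.2).1
  · simp

lemma coeff_quadPoly_ne (q : Fin n → Fin n → A) {e : Fin n →₀ ℕ} (he : e.degree ≠ 2) :
    MvPolynomial.coeff e (VanCyc.quadPoly q) = 0 := by
  rw [coeff_quadPoly]
  refine Finset.sum_eq_zero fun i _ => Finset.sum_eq_zero fun j _ => if_neg fun h => he ?_
  rw [← h.2, map_add, Finsupp.degree_single, Finsupp.degree_single]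

lemma isHomogeneous_quadPoly (q : Fin n → Fin n → A) : (VanCyc.quadPoly q).IsHomogeneous 2 := by
  intro e he
  by_contra h
  refine he (coeff_quadPoly_ne q fun hd => h ?_)
  rw [← hd, Finsupp.degree_eq_weight_one]
  rfl

end

variable {k : Type u} [Field k] {f : MvPowerSeries (Fin n) k}

lemma coeff_single_eq_zero
    (hJ : Ideal.span (Set.range fun i => pderiv k i f) = IsLocalRing.maximalIdeal (MvPowerSeries (Fin n) k))
    (i : Fin n) : coeff (single i 1) f = 0 := by
  have h : pderiv k i f ∈ IsLocalRing.maximalIdeal (MvPowerSeries (Fin n) k) :=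
    hJ ▸ Ideal.subset_span ⟨i, rfl⟩
  rw [IsLocalRing.mem_maximalIdeal, mem_nonunits_iff, isUnit_iff_constantCoeff, isUnit_iff_ne_zero,
    not_not, ← coeff_zero_eq_constantCoeff, coeff_pderiv] at h
  simpa using h

lemma polarMatrix_quadPart_apply (f : MvPowerSeries (Fin n) k) (i l : Fin n) :
    coeff (single l 1) (pderiv k i f) = VanCyc.polarMatrix (VanCyc.quadPart f) i l := by
  rw [coeff_pderiv]
  rcases lt_trichotomy i l with h | h | h
  · simp [VanCyc.polarMatrix, VanCyc.quadPart, h.ne, h.ne', h, add_comm (single l 1)]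
  · subst h
    rw [← Finsupp.single_add]
    simp [VanCyc.polarMatrix, VanCyc.quadPart, mul_comm, one_add_one_eq_two]
  · simp [VanCyc.polarMatrix, VanCyc.quadPart, h.ne', h.ne, h, h.not_gt]

lemma coeff_single_mul' (a b : MvPowerSeries (Fin n) k) (l : Fin n) :
    coeff (single l 1) (a * b) =
      constantCoeff a * coeff (single l 1) b + coeff (single l 1) a * constantCoeff b := by
  classical
  rw [coeff_mul, show Finset.HasAntidiagonal.antidiagonal (single l 1 : Fin n →₀ ℕ) =
      {(0, single l 1), (single l 1, 0)} by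
    rw [Finsupp.antidiagonal_single, Finset.Nat.antidiagonal_succ]; simp,
    Finset.sum_pair (by simp [Prod.ext_iff, eq_comm (a := (0 : Fin n →₀ ℕ))])]
  simp [coeff_zero_eq_constantCoeff]

lemma quadNondeg_quadPart
    (hJ : Ideal.span (Set.range fun i => pderiv k i f) = IsLocalRing.maximalIdeal (MvPowerSeries (Fin n) k)) :
    VanCyc.QuadNondeg (VanCyc.quadPart f) := by
  classical
  have hc : ∀ j, ∃ c : Fin n → MvPowerSeries (Fin n) k, ∑ i, c i * pderiv k i f = X j := by
    intro j
    have : (X j : MvPowerSeries (Fin n) k) ∈ Ideal.span (Set.range fun i => pderiv k i f) := by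
      rw [hJ, IsLocalRing.mem_maximalIdeal, mem_nonunits_iff, isUnit_iff_constantCoeff, constantCoeff_X]
      exact not_isUnit_zero
    exact (Ideal.mem_span_range_iff_exists_fun).1 this
  choose c hc using hc
  have h0 : ∀ i, constantCoeff (pderiv k i f) = 0 := fun i => by
    rw [← coeff_zero_eq_constantCoeff, coeff_pderiv]
    simp [coeff_single_eq_zero hJ]
  have hmul : Matrix.of (fun j i => constantCoeff (c j i)) * VanCyc.polarMatrix (VanCyc.quadPart f) = 1 := by
    ext j l
    have h := congrArg (coeff (single l 1)) (hc j)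
    rw [map_sum, coeff_X] at h
    simp only [coeff_single_mul', h0, mul_zero, add_zero, polarMatrix_quadPart_apply] at h
    rw [Matrix.mul_apply, Matrix.one_apply]
    simp only [Matrix.of_apply, h]
    simp [Finsupp.single_left_inj, eq_comm]
  rw [VanCyc.QuadNondeg, ← Matrix.isUnit_iff_isUnit_det]
  exact IsUnit.of_mul_eq_one_right _ hmul

lemma coeff_eq_quadPart (hf0 : constantCoeff f = 0)
    (hJ : Ideal.span (Set.range fun i => pderiv k i f) = IsLocalRing.maximalIdeal (MvPowerSeries (Fin n) k))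
    (e : Fin n →₀ ℕ) (he : e.degree ≤ 2) :
    coeff e f = coeff e (VanCyc.quadPoly (VanCyc.quadPart f) : MvPowerSeries (Fin n) k) := by
  rw [MvPolynomial.coeff_coe]
  rcases degree_cases e he with rfl | ⟨i, rfl⟩ | ⟨i, j, hij, rfl⟩
  · rw [coeff_quadPoly_ne _ (by simp), coeff_zero_eq_constantCoeff, hf0]
  · rw [coeff_quadPoly_ne _ (by simp), coeff_single_eq_zero hJ]
  · rw [coeff_quadPoly_pair _ hij, VanCyc.quadPart]
    rcases eq_or_lt_of_le hij with rfl | h
    · rw [if_pos rfl, ← Finsupp.single_add]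
    · rw [if_neg h.ne, if_pos h]

end MorseLib
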