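import Groth.Prelude.Def_QuadSing
import Groth.Agent.MorseLib.Filtration

/-! The Morse lemma for power series. -/

universe u

namespace MorseLib

open MvPowerSeries

variable {A : Type u} [CommRing A] {J : Ideal A} {n : ℕ}

lemma polarMatrix_eq (q : Fin n → Fin n → A) (i j : Fin n) :
    VanCyc.polarMatrix q i j = (if i ≤ j then q i j else 0) + (if j ≤ i then q j i else 0) := by
  rw [VanCyc.polarMatrix]
  rcases lt_trichotomy i j with h | h | h
  · rw [if_neg h.ne, if_pos h, if_pos h.le, if_neg (not_le.2 h), add_zero]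
  · subst h; simp [two_mul]
  · rw [if_neg h.ne', if_neg h.not_gt, if_neg (not_le.2 h), if_pos h.le, zero_add]

lemma quadEval_add (q : Fin n → Fin n → A) (x y : Fin n → A) :
    VanCyc.quadEval q (x + y) = VanCyc.quadEval q x + VanCyc.quadEval q y +
      ∑ i, x i * (∑ j, VanCyc.polarMatrix q i j * y j) := by
  have hterm : ∀ i j, x i * (VanCyc.polarMatrix q i j * y j) =
      (if i ≤ j then q i j * x i * y j else 0) + (if j ≤ i then q j i * y j * x i else 0) := by
    intro i j; rw [polarMatrix_eq]; split_ifs <;> ring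
  simp only [VanCyc.quadEval, Pi.add_apply, Finset.mul_sum, hterm, Finset.sum_add_distrib]
  rw [Finset.sum_comm (f := fun i j => if j ≤ i then q j i * y j * x i else 0)]
  simp only [← Finset.sum_add_distrib]
  refine Finset.sum_congr rfl fun i _ => Finset.sum_congr rfl fun j _ => ?_
  split_ifs <;> ring

lemma aeval_quadPoly {S : Type u} [CommRing S] [Algebra A S] (q : Fin n → Fin n → A) (v : Fin n → S) :
    MvPolynomial.aeval v (VanCyc.quadPoly q) = VanCyc.quadEval (fun i j => algebraMap A S (q i j)) v := by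
  simp only [VanCyc.quadPoly, VanCyc.quadEval, map_sum]
  refine Finset.sum_congr rfl fun i _ => Finset.sum_congr rfl fun j _ => ?_
  split_ifs <;> simp

lemma coe_quadPoly (q : Fin n → Fin n → A) :
    (VanCyc.quadPoly q : MvPowerSeries (Fin n) A) = VanCyc.quadEval (fun i j => C (q i j)) fun i => X i := by
  have h := aeval_quadPoly (S := MvPowerSeries (Fin n) A) q fun i => X i
  rw [← c_eq_algebraMap] at h
  rw [← h, show MvPolynomial.aeval (fun i => (X i : MvPowerSeries (Fin n) A)) =
    MvPolynomial.coeToMvPowerSeries.algHom A from MvPolynomial.algHom_ext fun i => by simp]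
  simp [MvPolynomial.coeToMvPowerSeries.algHom_apply]

/-- The part of `f` divisible first by `X k`, divided by it. -/
noncomputable def D (k : Fin n) : MvPowerSeries (Fin n) A →ₗ[A] MvPowerSeries (Fin n) A where
  toFun f := fun e => if ∀ j < k, e j = 0 then coeff (e + Finsupp.single k 1) f else 0
  map_add' f g := by
    ext e
    show (if ∀ j < k, e j = 0 then coeff (e + Finsupp.single k 1) (f + g) else 0) = _ + _
    rw [map_add]
    show _ = (if ∀ j < k, e j = 0 then coeff (e + Finsupp.single k 1) f else 0) +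
      (if ∀ j < k, e j = 0 then coeff (e + Finsupp.single k 1) g else 0)
    split_ifs <;> simp
  map_smul' c f := by
    ext e
    show (if ∀ j < k, e j = 0 then coeff (e + Finsupp.single k 1) (c • f) else 0) =
      c • (if ∀ j < k, e j = 0 then coeff (e + Finsupp.single k 1) f else 0)
    rw [map_smul]
    split_ifs <;> simp

lemma coeff_D (k : Fin n) (f : MvPowerSeries (Fin n) A) (e : Fin n →₀ ℕ) :
    coeff e (D k f) = if ∀ j < k, e j = 0 then coeff (e + Finsupp.single k 1) f else 0 := rfl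

lemma D_mem (k : Fin n) {d : ℕ} {f : MvPowerSeries (Fin n) A} (hf : f ∈ Low J d) :
    D k f ∈ Low J (d - 1) := by
  intro e
  rw [coeff_D]
  split_ifs
  · refine Ideal.pow_le_pow_right (le_of_eq ?_) (hf _)
    rw [map_add, Finsupp.degree_single]; omega
  · exact zero_mem _

lemma sum_X_mul_D (f : MvPowerSeries (Fin n) A) :
    ∑ k, X k * D k f = f - C (constantCoeff f) := by
  classical
  ext e
  rw [map_sum, map_sub, coeff_C]
  have hterm : ∀ k, coeff e (X k * D k f) =
      if e k ≠ 0 ∧ ∀ j < k, e j = 0 then coeff e f else 0 := by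
    intro k
    rw [X_def, coeff_monomial_mul, one_mul, coeff_D]
    by_cases hk : e k = 0
    · rw [if_neg, if_neg (fun h => h.1 hk)]
      intro h
      have := h k
      simp [hk] at this
    · have hle : Finsupp.single k 1 ≤ e := by simpa using Nat.one_le_iff_ne_zero.2 hk
      rw [if_pos hle, tsub_add_cancel_of_le hle]
      refine if_congr ⟨fun h => ⟨hk, fun j hj => ?_⟩, fun h j hj => ?_⟩ rfl rfl
      · have := h j hj
        rwa [Finsupp.tsub_apply, Finsupp.single_eq_of_ne hj.ne, tsub_zero] at this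
      · rw [Finsupp.tsub_apply, Finsupp.single_eq_of_ne hj.ne, tsub_zero, h.2 j hj]
  simp only [hterm]
  by_cases he : e = 0
  · subst he; simp [coeff_zero_eq_constantCoeff]
  · rw [if_neg he, sub_zero]
    obtain ⟨j, hj⟩ := Finsupp.support_nonempty_iff.2 he
    let k := e.support.min' ⟨j, hj⟩
    have hk : e k ≠ 0 := Finsupp.mem_support_iff.1 (Finset.min'_mem _ _)
    have hmin : ∀ i < k, e i = 0 := fun i hi => Finsupp.notMem_support_iff.1 fun h =>
      absurd (Finset.min'_le _ i h) (not_le.2 hi)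
    rw [Finset.sum_eq_single k, if_pos ⟨hk, hmin⟩]
    · intro i _ hik
      refine if_neg fun h => ?_
      rcases lt_or_gt_of_ne hik with hlt | hlt
      · exact h.1 (hmin i hlt)
      · exact hk (h.2 k hlt)
    · simp

lemma quadEval_mem (q : Fin n → Fin n → A) {r : ℕ} {v : Fin n → MvPowerSeries (Fin n) A}
    (hv : ∀ i, v i ∈ Low J r) : VanCyc.quadEval (fun i j => C (q i j)) v ∈ Low J (r + r) := by
  refine Submodule.sum_mem _ fun i _ => Submodule.sum_mem _ fun j _ => ?_
  split_ifs
  · rw [mul_assoc]; exact Ideal.mul_mem_left _ _ (mul_mem_Low (hv i) (hv j))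
  · exact zero_mem _

lemma quadEval_sub_mem (q : Fin n → Fin n → A) {r d : ℕ} {v w : Fin n → MvPowerSeries (Fin n) A}
    (hv : ∀ i, v i ∈ Low J r) (hw : ∀ i, w i ∈ Low J r) (hd : ∀ i, v i - w i ∈ Low J d) :
    VanCyc.quadEval (fun i j => C (q i j)) v - VanCyc.quadEval (fun i j => C (q i j)) w ∈
      Low J (d + r) := by
  simp only [VanCyc.quadEval, ← Finset.sum_sub_distrib]
  refine Submodule.sum_mem _ fun i _ => Submodule.sum_mem _ fun j _ => ?_
  split_ifs
  · have h1 := mul_mem_Low (hd i) (hv j)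
    have h2 := mul_mem_Low (hw i) (hd j)
    rw [add_comm r d] at h2
    convert Ideal.mul_mem_left _ (C (q i j)) (add_mem h1 h2) using 1
    ring
  · simp

lemma X_add_mem {r : ℕ} (hr : 1 ≤ r) {v : Fin n → MvPowerSeries (Fin n) A}
    (hv : ∀ i, v i ∈ Low J r) (i : Fin n) : X i + v i ∈ Low J 1 :=
  add_mem (X_mem_Low i) (Low_anti hr (hv i))

variable [IsAdicComplete J A]

/-- The Morse lemma, direct form. -/
theorem exists_eps (q : Fin n → Fin n → A) (hq : VanCyc.QuadNondeg q) (a : A) {r : ℕ} (hr : 2 ≤ r)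
    (G : MvPowerSeries (Fin n) A) (hG : G ∈ Low J (r + 1)) (hG0 : constantCoeff G = 0) :
    ∃ (ε : Fin n → MvPowerSeries (Fin n) A) (c : A) (h : ∀ i, X i + ε i ∈ Low J 1),
      (∀ i, ε i ∈ Low J r) ∧ c ∈ J ^ r ∧
      (VanCyc.quadPoly q + MvPolynomial.C a : MvPolynomial (Fin n) A) + G =
        Ev (fun i => X i + ε i) h (VanCyc.quadPoly q + MvPolynomial.C (a - c) : MvPolynomial (Fin n) A) := by
  classical
  let Q := fun v : Fin n → MvPowerSeries (Fin n) A => VanCyc.quadEval (fun i j => C (q i j)) v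
  let P := (VanCyc.polarMatrix q).map (C (σ := Fin n))
  let T : (Fin n → MvPowerSeries (Fin n) A) → Fin n → MvPowerSeries (Fin n) A := fun v i =>
    ∑ k, C ((VanCyc.polarMatrix q)⁻¹ i k) * D k (G - Q v)
  obtain ⟨ε, hε, hfix⟩ := exists_fixed (J := J) T r
    (fun v hv i => Submodule.sum_mem _ fun k _ => Ideal.mul_mem_left _ _ (Low_anti (by omega)
      (D_mem k (sub_mem hG (Low_anti (by omega) (quadEval_mem q hv))))))
    (fun v w hv hw d hd i => by
      simp only [T, ← Finset.sum_sub_distrib, ← mul_sub, ← map_sub, sub_sub_sub_cancel_left]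
      refine Submodule.sum_mem _ fun k _ => Ideal.mul_mem_left _ _ (Low_anti (by omega)
        (D_mem k (quadEval_sub_mem q hw hv (d := d) fun i => ?_)))
      simpa using neg_mem (hd i))
  have hPε : ∀ k, ∑ i, C (VanCyc.polarMatrix q k i) * ε i = D k (G - Q ε) := by
    intro k
    conv_lhs =>
      enter [2, i]
      rw [← hfix]
    simp only [T, Finset.mul_sum, ← mul_assoc, ← map_mul]
    rw [Finset.sum_comm]
    simp only [← Finset.sum_mul, ← map_sum]
    have : ∀ l, ∑ i, VanCyc.polarMatrix q k i * (VanCyc.polarMatrix q)⁻¹ i l = (1 : Matrix (Fin n) (Fin n) A) k l :=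
      fun l => by rw [← Matrix.mul_apply, Matrix.mul_nonsing_inv _ hq]
    simp only [this, Matrix.one_apply]
    rw [Finset.sum_eq_single k] <;> simp +contextual [eq_comm]
  refine ⟨ε, constantCoeff (Q ε), X_add_mem (by omega) hε, hε, ?_, ?_⟩
  · have h := quadEval_mem (J := J) q hε 0
    rw [coeff_zero_eq_constantCoeff] at h
    refine Ideal.pow_le_pow_right ?_ h
    rw [map_zero]; omega
  · rw [MvPolynomial.coe_add, MvPolynomial.coe_add, map_add, Ev_coe, Ev_coe, MvPolynomial.aeval_C,
      aeval_quadPoly, ← c_eq_algebraMap,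
      show (fun i => X i + ε i) = (fun i => (X i : MvPowerSeries (Fin n) A)) + ε from rfl,
      quadEval_add]
    have hP : ∀ i j, VanCyc.polarMatrix (fun i j => (C (q i j) : MvPowerSeries (Fin n) A)) i j =
        C (VanCyc.polarMatrix q i j) := fun i j => by
      rw [polarMatrix_eq, polarMatrix_eq]; split_ifs <;> simp
    simp only [hP, hPε, sum_X_mul_D]
    simp only [coe_quadPoly, MvPolynomial.coe_C, map_sub, hG0, map_zero]
    simp only [Q]
    ring

lemma Ev_sub_mem {a b : Fin n → MvPowerSeries (Fin n) A} (ha : ∀ i, a i ∈ Low J 1)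
    (hb : ∀ i, b i ∈ Low J 1) {d r : ℕ} (hab : ∀ i, a i - b i ∈ Low J d)
    {f : MvPowerSeries (Fin n) A} (hf : f ∈ Low J r) :
    Ev a ha f - Ev b hb f ∈ Low J (d + r - 1) := by
  let N := max r (d + r - 1)
  have hp := sub_truncTotal_mem (J := J) f N
  have hpr : (truncTotal N f : MvPowerSeries (Fin n) A) ∈ Low J r := by
    simpa using sub_mem hf (Low_anti (le_max_left _ _) hp)
  have h1 : Ev a ha f - MvPolynomial.aeval a (truncTotal N f) ∈ Low J (d + r - 1) :=
    Low_anti (le_max_right _ _) (evFun_spec a ha hp)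
  have h2 : Ev b hb f - MvPolynomial.aeval b (truncTotal N f) ∈ Low J (d + r - 1) :=
    Low_anti (le_max_right _ _) (evFun_spec b hb hp)
  convert add_mem (sub_mem h1 h2) (aeval_sub_mem ha hb hab hpr) using 1
  ring

lemma exists_left_inverse {r : ℕ} (hr : 2 ≤ r) (ε : Fin n → MvPowerSeries (Fin n) A)
    (hε : ∀ i, ε i ∈ Low J r) :
    ∃ (η : Fin n → MvPowerSeries (Fin n) A) (h : ∀ i, X i + η i ∈ Low J 1), (∀ i, η i ∈ Low J r) ∧
      (Ev (fun i => X i + η i) h).comp (Ev (fun i => X i + ε i) (X_add_mem (by omega) hε)) =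
        AlgHom.id A _ := by
  classical
  let T : (Fin n → MvPowerSeries (Fin n) A) → Fin n → MvPowerSeries (Fin n) A := fun v i =>
    if h : ∀ j, X j + v j ∈ Low J 1 then -Ev (fun j => X j + v j) h (ε i) else 0
  obtain ⟨η, hη, hfix⟩ := exists_fixed (J := J) T r
    (fun v hv i => by
      simp only [T, dif_pos (X_add_mem (show 1 ≤ r by omega) hv)]
      exact neg_mem (Ev_mem _ _ (hε i)))
    (fun v w hv hw d hd i => by
      simp only [T, dif_pos (X_add_mem (show 1 ≤ r by omega) hv),
        dif_pos (X_add_mem (show 1 ≤ r by omega) hw), neg_sub_neg]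
      refine Low_anti (by omega) (Ev_sub_mem _ _ (d := d) (fun j => ?_) (hε i))
      simpa [← sub_eq_add_neg] using neg_mem (hd j))
  refine ⟨η, X_add_mem (by omega) hη, hη, ?_⟩
  rw [Ev_comp]
  refine (eq_Ev _ _ (φ := AlgHom.id A _) (fun _ _ hf => hf) fun i => ?_).symm
  rw [AlgHom.id_apply, map_add, Ev_X]
  have := congrFun hfix i
  simp only [T, dif_pos (X_add_mem (show 1 ≤ r by omega) hη)] at this
  linear_combination this

lemma exists_inverse {r : ℕ} (hr : 2 ≤ r) (ε : Fin n → MvPowerSeries (Fin n) A)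
    (hε : ∀ i, ε i ∈ Low J r) :
    ∃ (η : Fin n → MvPowerSeries (Fin n) A) (h : ∀ i, X i + η i ∈ Low J 1), (∀ i, η i ∈ Low J r) ∧
      (Ev (fun i => X i + η i) h).comp (Ev (fun i => X i + ε i) (X_add_mem (by omega) hε)) =
        AlgHom.id A _ ∧
      (Ev (fun i => X i + ε i) (X_add_mem (by omega) hε)).comp (Ev (fun i => X i + η i) h) =
        AlgHom.id A _ := by
  obtain ⟨η, h, hη, h1⟩ := exists_left_inverse hr ε hε
  obtain ⟨ζ, h', -, h2⟩ := exists_left_inverse hr η hη
  refine ⟨η, h, hη, h1, ?_⟩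
  have : Ev (fun i => X i + ζ i) h' = Ev (fun i => X i + ε i) (X_add_mem (by omega) hε) := by
    have := congrArg (fun φ => AlgHom.comp φ (Ev (fun i => X i + ε i) (X_add_mem (by omega) hε))) h2
    rw [AlgHom.comp_assoc, h1, AlgHom.comp_id, AlgHom.id_comp] at this
    exact this
  rwa [this] at h2

lemma quotient_equiv {r : ℕ} (hr : 2 ≤ r) (ε : Fin n → MvPowerSeries (Fin n) A)
    (hε : ∀ i, ε i ∈ Low J r) (F Q : MvPowerSeries (Fin n) A)
    (hF : F = Ev (fun i => X i + ε i) (X_add_mem (by omega) hε) Q) :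
    Nonempty ((MvPowerSeries (Fin n) A ⧸ Ideal.span {F}) ≃ₐ[A]
      (MvPowerSeries (Fin n) A ⧸ Ideal.span {Q})) := by
  obtain ⟨η, h, -, h1, h2⟩ := exists_inverse hr ε hε
  refine ⟨Ideal.quotientEquivAlg _ _ (AlgEquiv.ofAlgHom _ _ h1 h2) ?_⟩
  rw [Ideal.map_span, Set.image_singleton]
  congr
  rw [hF]
  exact (AlgHom.congr_fun h1 Q).symm

omit [IsAdicComplete J A] in
lemma Ev_eq_subst (a : Fin n → MvPowerSeries (Fin n) A) (ha : ∀ i, a i ∈ Low (⊥ : Ideal A) 1) :
    HasSubst a ∧ ∀ f, Ev a ha f = subst a f := by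
  have hs : HasSubst a := hasSubst_of_constantCoeff_zero fun i => by
    rw [← coeff_zero_eq_constantCoeff]
    exact mem_Low_bot.1 (ha i) 0 (by simp)
  refine ⟨hs, fun f => ?_⟩
  rw [← eq_Ev a ha (φ := substAlgHom hs) (fun N g hg => mem_Low_bot.2 fun e he => ?_)
    (fun i => substAlgHom_X hs i), coe_substAlgHom]
  rw [coe_substAlgHom]
  refine coeff_of_lt_order (lt_of_lt_of_le ?_ (le_order_subst hs g))
  have h1 : (1 : ℕ∞) ≤ ⨅ i, (a i).order := le_iInf fun i =>
    nat_le_order (n := 1) fun d hd => mem_Low_bot.1 (ha i) d hd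
  have h2 : (N : ℕ∞) ≤ g.order := nat_le_order fun d hd => mem_Low_bot.1 hg d hd
  calc (e.degree : ℕ∞) < N := by exact_mod_cast he
    _ = 1 * N := (one_mul _).symm
    _ ≤ _ := mul_le_mul' h1 h2

omit [IsAdicComplete J A] in
lemma sub_mem_Low_bot {m : ℕ} {F G : MvPowerSeries (Fin n) A}
    (h : ∀ e : Fin n →₀ ℕ, e.degree ≤ m → coeff e F = coeff e G) : F - G ∈ Low (⊥ : Ideal A) (m + 1) :=
  mem_Low_bot.2 fun e he => by rw [map_sub, h e (by omega), sub_self]

end MorseLib
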